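import Cfsg.Agent.RankOneK.Setup

/-!
The three consequences of the structure of the two-point stabiliser, in the shape of the statements.
-/

set_option autoImplicit false

namespace Cfsg.Agent.RankOneK

open MulAction RankOne

universe u

variable {G : Type u} {Ω : Type*} [Group G] [Finite G] [MulAction G Ω] [FaithfulSMul G Ω] {a : Ω} {t : G}
  {Q : Subgroup G}

/-- The inverted elements form a cyclic subgroup normal in `D`. -/
theorem exists_cyclic (hFT : OddOrderGlue.FeitThompson.{u}) (hS : Cfsg.IsRankOneSetup G Ω a t Q)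
    (h2 : ∃ x y : G, x ≠ 1 ∧ y ≠ 1 ∧ x ≠ y ∧ x * x = 1 ∧ y * y = 1 ∧ x * y = y * x) :
    ∃ C : Subgroup G, (C : Set G) = Cfsg.invertedBy (twoStab G a t) t ∧ IsCyclic C ∧
      ∀ d ∈ twoStab G a t, ∀ c ∈ C, d * c * d⁻¹ ∈ C := by
  obtain ⟨g, -, hK, hn, -⟩ := structure_twoStab hFT hS h2
  refine ⟨Subgroup.zpowers g, Set.ext fun k => (hK k).symm, inferInstance, fun d hd c hc => ?_⟩
  obtain ⟨j, rfl⟩ := Subgroup.mem_zpowers_iff.1 hc
  rw [← conj_zpow]
  exact zpow_mem (hn d hd) j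

/-- `V / W` is cyclic. -/
theorem exists_generator_mod (hFT : OddOrderGlue.FeitThompson.{u}) (hS : Cfsg.IsRankOneSetup G Ω a t Q)
    (h2 : ∃ x y : G, x ≠ 1 ∧ y ≠ 1 ∧ x ≠ y ∧ x * x = 1 ∧ y * y = 1 ∧ x * y = y * x) :
    ∃ v ∈ twoStab G a t ⊓ Subgroup.centralizer {t},
      (twoStab G a t ⊓ Subgroup.centralizer {t} ⊓
          Subgroup.centralizer (Cfsg.invertedBy (twoStab G a t) t)) ⊔ Subgroup.closure {v} =
        twoStab G a t ⊓ Subgroup.centralizer {t} := by
  obtain ⟨-, -, -, -, v, hv, hj⟩ := structure_twoStab hFT hS h2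
  rw [show twoStab G a t ⊓ Subgroup.centralizer {t} ⊓
      Subgroup.centralizer (Cfsg.invertedBy (twoStab G a t) t) = wker G a t from (S1127.result hS).2]
  refine ⟨v, hv, le_antisymm (sup_le ?_ ((Subgroup.closure_le _).2 (Set.singleton_subset_iff.2 hv)))
    fun x hx => ?_⟩
  · rw [← show twoStab G a t ⊓ Subgroup.centralizer {t} ⊓
      Subgroup.centralizer (Cfsg.invertedBy (twoStab G a t) t) = wker G a t from (S1127.result hS).2]
    exact inf_le_left
  · obtain ⟨j, h⟩ := hj x hx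
    rw [show x = v ^ (-j) * (v ^ j * x) by group]
    exact mul_mem (Subgroup.mem_sup_right (zpow_mem (Subgroup.subset_closure (Set.mem_singleton v)) _))
      (Subgroup.mem_sup_left h)

/-- A Sylow 2-subgroup of `Q` is abelian or a Suzuki 2-group. -/
theorem sylow_abelian_or_suzuki (hFT : OddOrderGlue.FeitThompson.{u})
    (hS : Cfsg.IsRankOneSetup G Ω a t Q)
    (h2 : ∃ x y : G, x ≠ 1 ∧ y ≠ 1 ∧ x ≠ y ∧ x * x = 1 ∧ y * y = 1 ∧ x * y = y * x)
    (S : Sylow 2 ↥Q) : IsMulCommutative (S : Subgroup ↥Q) ∨ Cfsg.IsSuzukiTwoGroup ↥(S : Subgroup ↥Q) := by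
  classical
  haveI : Fact (Nat.Prime 2) := ⟨Nat.prime_two⟩
  haveI := isNilpotent_Q hS h2
  refine or_iff_not_imp_left.2 fun hnc => ?_
  obtain ⟨g, hgK, hK, -, -⟩ := structure_twoStab hFT hS h2
  have hchar : (S : Subgroup Q).Characteristic := S.characteristic_of_normal inferInstance
  have hinv : ∀ s ∈ Cfsg.involutionsIn (stabilizer G a : Set G),
      ∃ h : s ∈ Q, (⟨s, h⟩ : Q) ∈ (S : Subgroup Q) := fun s hs => by
    refine ⟨invol_mem_Q hS ⟨hs.2.1, hs.2.2⟩ hs.1, ?_⟩
    set x : Q := ⟨s, invol_mem_Q hS ⟨hs.2.1, hs.2.2⟩ hs.1⟩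
    have hx : IsPGroup 2 (Subgroup.zpowers x) := by
      refine IsPGroup.of_card (n := 1) ?_
      rw [Nat.card_zpowers, pow_one]
      exact orderOf_eq_prime (Subtype.ext (by simp [x, pow_two, hs.2.2]))
        (fun h => hs.2.1 (congrArg Subtype.val h))
    obtain ⟨P, hP⟩ := hx.exists_le_sylow
    haveI : Unique (Sylow 2 Q) := S.unique_of_normal inferInstance
    rw [Subsingleton.elim S P]
    exact hP (Subgroup.mem_zpowers x)
  let conjQ : Subgroup.zpowers g →* MulAut Q :=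
    (MulAut.conjNormal (G := Subgroup.normalizer (Q : Set G))
      (H := Q.subgroupOf (Subgroup.normalizer (Q : Set G)))).comp
        (Subgroup.inclusion (Subgroup.zpowers_le.2 (twoStab_le_normalizer hS hgK.1))) |> fun ψ =>
      (MulAut.congr (Subgroup.subgroupOfEquivOfLe Subgroup.le_normalizer)).toMonoidHom.comp ψ
  have hconjQ : ∀ (k : Subgroup.zpowers g) (x : Q), ((conjQ k x : Q) : G) = k * x * (k : G)⁻¹ :=
    fun _ _ => rfl
  have hS' : ∀ (k : Subgroup.zpowers g), (S : Subgroup Q).map (conjQ k).toMonoidHom = S := fun k =>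
    Subgroup.characteristic_iff_map_eq.1 hchar (conjQ k)
  have hmem : ∀ (k : Subgroup.zpowers g) (x : (S : Subgroup Q)), conjQ k x ∈ (S : Subgroup Q) := fun k x =>
    (hS' k).le ⟨x, x.2, rfl⟩
  let θ : Subgroup.zpowers g →* MulAut (S : Subgroup Q) :=
    { toFun := fun k =>
        { toFun := fun x => ⟨conjQ k x, hmem k x⟩
          invFun := fun x => ⟨conjQ k⁻¹ x, hmem k⁻¹ x⟩
          left_inv := fun x => Subtype.ext (Subtype.ext (by simp [hconjQ, mul_assoc]))
          right_inv := fun x => Subtype.ext (Subtype.ext (by simp [hconjQ, mul_assoc]))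
          map_mul' := fun x y => Subtype.ext (by simp) }
      map_one' := MulEquiv.ext fun x => Subtype.ext (by simp)
      map_mul' := fun k l => MulEquiv.ext fun x => Subtype.ext (by simp) }
  have hθ : ∀ k (x : (S : Subgroup Q)), (((θ k x : (S : Subgroup Q)) : Q) : G) = k * (x : Q) * (k : G)⁻¹ :=
    fun _ _ => rfl
  refine ⟨inferInstance, S.2, ?_, ?_, θ.range, ?_, ?_⟩
  · by_contra h
    push Not at h
    exact hnc ⟨⟨h⟩⟩
  · obtain ⟨s, hs, s', hs', hne, -⟩ := exists_two_invol hS h2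
    obtain ⟨h, hS1⟩ := hinv s hs
    obtain ⟨h', hS2⟩ := hinv s' hs'
    refine ⟨⟨⟨s, h⟩, hS1⟩, ⟨⟨s', h'⟩, hS2⟩, fun e => hne ?_, fun e => hs.2.1 ?_, ?_, fun e => hs'.2.1 ?_, ?_⟩
    · simpa using congrArg (fun z : (S : Subgroup Q) => ((z : Q) : G)) e
    · simpa using congrArg (fun z : (S : Subgroup Q) => ((z : Q) : G)) e
    · exact Subtype.ext (Subtype.ext hs.2.2)
    · simpa using congrArg (fun z : (S : Subgroup Q) => ((z : Q) : G)) e
    · exact Subtype.ext (Subtype.ext hs'.2.2)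
  · exact isCyclic_of_surjective θ.rangeRestrict θ.rangeRestrict_surjective
  · intro x y hx hxx hy hyy
    have hin : ∀ z : (S : Subgroup Q), z ≠ 1 → z * z = 1 →
        ((z : Q) : G) ∈ Cfsg.involutionsIn (stabilizer G a : Set G) := fun z hz hzz =>
      ⟨hS.le (z : Q).2, fun e => hz (Subtype.ext (Subtype.ext e)),
        congrArg (fun w : (S : Subgroup Q) => ((w : Q) : G)) hzz⟩
    obtain ⟨k, hk, hkxy⟩ := inverted_transitive hS (hin x hx hxx) (hin y hy hyy)
    have hki : k⁻¹ ∈ Subgroup.zpowers g := inv_mem ((hK k).1 hk)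
    refine ⟨⟨θ ⟨k⁻¹, hki⟩, _, rfl⟩, ?_, ?_⟩
    · refine Subtype.ext (Subtype.ext ?_)
      rw [hθ, inv_inv]
      exact hkxy
    · rintro ⟨_, ⟨l, hl⟩, rfl⟩ h
      have e : l * ((x : Q) : G) * l⁻¹ = ((y : Q) : G) :=
        (hθ _ _).symm.trans (congrArg (fun w : (S : Subgroup Q) => ((w : Q) : G)) h)
      have hlK : l⁻¹ ∈ Cfsg.invertedBy (twoStab G a t) t := (hK _).2 (inv_mem hl)
      have := inverted_conj_inj hS (hin x hx hxx) hk hlK (by rw [hkxy, inv_inv]; exact e.symm)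
      subst this
      exact Subtype.ext (congrArg θ (Subtype.ext (inv_inv l).symm))

end Cfsg.Agent.RankOneK
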