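import Cfsg.Agent.Lib.RankOne.HalfTrans
import Cfsg.Agent.Lib.Fitting.Minimal
import Mathlib.FieldTheory.Finite.Basic
import Mathlib.FieldTheory.Finite.GaloisField

/-!
# Solvable groups of odd order transitive on the non-zero vectors over `F₂`, with an automorphism

The elements inverted by an involutory automorphism whose fixed points fix a vector form the Fitting
subgroup, which is cyclic, regular on the non-zero vectors; the vector stabiliser is cyclic.
-/

set_option autoImplicit false

namespace Cfsg.Agent.RankOneK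



open Cfsg.Agent.RankOne

variable {H E : Type*} [Group H] [Finite H] [AddCommGroup E] [Finite E] [DistribMulAction H E]
  [FaithfulSMul H E]

/-- A normal `p`-subgroup is cyclic and fixed-point-free. -/
theorem normal_pGroup (hodd : Odd (Nat.card H)) (h2 : ∀ e : E, 2 • e = 0)
    (htr : ∀ a b : E, a ≠ 0 → b ≠ 0 → ∃ h : H, h • a = b) {p : ℕ} [hp : Fact p.Prime]
    (P : Subgroup H) [P.Normal] (hP : IsPGroup p P) :
    IsCyclic P ∧ ∀ g ∈ P, g ≠ 1 → ∀ e : E, g • e = e → e = 0 := by
  rcases eq_or_ne P ⊥ with rfl | hP1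
  · exact ⟨inferInstance, fun g hg hg1 => absurd (Subgroup.mem_bot.mp hg) hg1⟩
  have hp2 : p ≠ 2 := by
    rintro rfl
    obtain ⟨k, hk⟩ := IsPGroup.iff_card.mp hP
    have hk0 : k ≠ 0 := fun h => hP1 (Subgroup.eq_bot_of_card_eq P (by rw [hk, h, pow_zero]))
    have : 2 ∣ Nat.card H :=
      (dvd_pow_self 2 hk0).trans (hk ▸ P.card_subgroup_dvd_card)
    exact Nat.not_even_iff_odd.mpr hodd (even_iff_two_dvd.mpr this)
  haveI : FaithfulSMul P E :=
    ⟨fun {x y} h => Subtype.ext (eq_of_smul_eq_smul (α := E) fun e => h e)⟩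
  obtain ⟨hc, hf⟩ := HalfTrans.main (P := P) (E := E) hp2 hP Nat.prime_two h2 (fun a b ha hb => by
    obtain ⟨h, rfl⟩ := htr a b ha hb
    refine Nat.card_congr
      { toFun := fun g => ⟨⟨h * (g.1 : H) * h⁻¹, Subgroup.Normal.conj_mem inferInstance _ g.1.2 h⟩, ?_⟩
        invFun := fun g => ⟨⟨h⁻¹ * (g.1 : H) * h, Subgroup.Normal.conj_mem' inferInstance _ g.1.2 h⟩, ?_⟩
        left_inv := fun g => by ext; simp [mul_assoc]
        right_inv := fun g => by ext; simp [mul_assoc] }
    · have e : (g.1 : H) • a = a := g.2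
      show (h * (g.1 : H) * h⁻¹) • h • a = h • a
      rw [mul_smul, mul_smul, inv_smul_smul, e]
    · have e : (g.1 : H) • h • a = h • a := g.2
      show (h⁻¹ * (g.1 : H) * h) • a = a
      rw [mul_smul, mul_smul, e, inv_smul_smul])
  exact ⟨hc, fun g hg hg1 e he => hf ⟨g, hg⟩ (fun h => hg1 (congrArg Subtype.val h)) e he⟩

/-- The Fitting subgroup is cyclic and fixed-point-free. -/
theorem fitting_cyclic (hodd : Odd (Nat.card H)) (h2 : ∀ e : E, 2 • e = 0)
    (htr : ∀ a b : E, a ≠ 0 → b ≠ 0 → ∃ h : H, h • a = b) :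
    IsCyclic (Cfsg.fittingSubgroup H) ∧
      ∀ g ∈ Cfsg.fittingSubgroup H, g ≠ 1 → ∀ e : E, g • e = e → e = 0 := by
  classical
  set F := Cfsg.fittingSubgroup H with hF
  haveI hnil : Group.IsNilpotent F := Fitting.fitting_isNilpotent
  have hsyl : ∀ (p : ℕ) (_ : Fact p.Prime) (S : Sylow p F),
      ((S : Subgroup F).map F.subtype).Normal := fun p _ S => by
    haveI : (S : Subgroup F).Normal := inferInstance
    haveI := S.characteristic_of_normal inferInstance
    exact ConjAct.normal_of_characteristic_of_normal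
  refine ⟨?_, fun g hg hg1 e he => ?_⟩
  · haveI : IsZGroup F := ⟨fun p hp S => by
      haveI : Fact p.Prime := ⟨hp⟩
      haveI := hsyl p inferInstance S
      haveI := (normal_pGroup hodd h2 htr ((S : Subgroup F).map F.subtype) (S.2.map _)).1
      exact isCyclic_of_injective ((S : Subgroup F).equivMapOfInjective F.subtype
        F.subtype_injective).toMonoidHom (MulEquiv.injective _)⟩
    infer_instance
  · obtain ⟨p, hp, hdvd⟩ := Nat.exists_prime_and_dvd (fun h => hg1 (orderOf_eq_one_iff.1 h))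
    haveI : Fact p.Prime := ⟨hp⟩
    set g' : F := ⟨g, hg⟩ ^ (orderOf g / p) with hg'
    have hord : orderOf g' = p := by
      rw [hg', orderOf_pow, Subgroup.orderOf_mk, Nat.gcd_eq_right (Nat.div_dvd_of_dvd hdvd),
        Nat.div_div_self hdvd (orderOf_pos g).ne']
    obtain ⟨S, hS⟩ := (IsPGroup.of_card (n := 1) (by rw [Nat.card_zpowers, hord, pow_one]) :
      IsPGroup p (Subgroup.zpowers g')).exists_le_sylow
    haveI := hsyl p inferInstance S
    refine (normal_pGroup hodd h2 htr ((S : Subgroup F).map F.subtype) (S.2.map _)).2 (g' : H)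
      ⟨g', hS (Subgroup.mem_zpowers g'), rfl⟩ (fun h => ?_) e ?_
    · rw [show g' = 1 from Subtype.ext h, orderOf_one] at hord
      exact hp.ne_one hord.symm
    · rw [hg', SubmonoidClass.coe_pow]
      exact MulAction.mem_stabilizer_iff.mp
        (pow_mem (MulAction.mem_stabilizer_iff.mpr he : g ∈ MulAction.stabilizer H e) _)

/-- The set of elements inverted by the automorphism is the Fitting subgroup. -/
theorem inverted_eq_fitting [Group.IsSolvable H] (hodd : Odd (Nat.card H)) (h2 : ∀ e : E, 2 • e = 0)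
    (htr : ∀ a b : E, a ≠ 0 → b ≠ 0 → ∃ h : H, h • a = b) {s : E} (hs : s ≠ 0)
    (τ : H →* H) (hτ : ∀ h, τ (τ h) = h) (hfix : ∀ h, τ h = h → h • s = s) (h : H) :
    h ∈ Cfsg.fittingSubgroup H ↔ τ h = h⁻¹ := by
  obtain ⟨hc, hfpf⟩ := fitting_cyclic hodd h2 htr
  set F := Cfsg.fittingSubgroup H with hF
  haveI := hc
  have hcomm : ∀ x ∈ F, ∀ y ∈ F, x * y = y * x := fun x hx y hy =>
    congrArg Subtype.val (mul_comm_of_mem_closure_aux ⟨x, hx⟩ ⟨y, hy⟩)
  have hτF : ∀ x ∈ F, τ x ∈ F := fun x hx => by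
    have hsur : Function.Surjective τ := fun y => ⟨τ y, hτ y⟩
    exact Fitting.le_fitting (Fitting.fitting_normal.map τ hsur)
      (Fitting.isNilpotent_map _ Fitting.fitting_isNilpotent) ⟨x, hx, rfl⟩
  have hinv : ∀ x ∈ F, τ x = x⁻¹ := fun x hx => by
    have hu : τ (x * τ x) = x * τ x := by rw [map_mul, hτ, hcomm _ (hτF x hx) _ hx]
    by_contra hne
    exact hs (hfpf _ (mul_mem hx (hτF x hx)) (fun h => hne (eq_inv_of_mul_eq_one_right h)) s (hfix _ hu))
  refine ⟨hinv h, fun hh => ?_⟩
  have hsq : h * h ∈ F := by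
    refine Fitting.centralizer_fitting_le (Subgroup.mem_centralizer_iff.mpr fun f hf => ?_)
    have hconj : h * f * h⁻¹ ∈ F := Fitting.fitting_normal.conj_mem f hf h
    have e := hinv _ hconj
    rw [map_mul, map_mul, map_inv, hh, hinv f hf, inv_inv, mul_inv_rev, mul_inv_rev, inv_inv,
      ← mul_assoc] at e
    have e' : h⁻¹ * f * h = h * f * h⁻¹ := by simpa [mul_assoc] using congrArg Inv.inv e
    calc f * (h * h) = h * (h⁻¹ * f * h) * h := by group
      _ = h * h * f := by rw [e']; group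
  have ho : Odd (orderOf h) := hodd.of_dvd_nat (orderOf_dvd_natCard h)
  obtain ⟨k, hk⟩ := ho
  have : (h * h) ^ (k + 1) = h := by
    rw [← pow_two, ← pow_mul, show 2 * (k + 1) = orderOf h + 1 from by omega, pow_succ, pow_orderOf_eq_one,
      one_mul]
  rw [← this]
  exact pow_mem hsq _
where
  /-- commutativity of a cyclic group -/
  mul_comm_of_mem_closure_aux {C : Type _} [Group C] [IsCyclic C] (x y : C) : x * y = y * x := by
    obtain ⟨g, hg⟩ := IsCyclic.exists_generator (α := C)
    obtain ⟨i, rfl⟩ := Subgroup.mem_zpowers_iff.mp (hg x)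
    obtain ⟨j, rfl⟩ := Subgroup.mem_zpowers_iff.mp (hg y)
    rw [← zpow_add, ← zpow_add, add_comm]

omit [Finite H] in
/-- A vector stabiliser normalising a transitive cyclic group is cyclic. -/
theorem stabilizer_isCyclic (h2 : ∀ e : E, 2 • e = 0) (f : H)
    (hn : ∀ g : H, g * f * g⁻¹ ∈ Submonoid.powers f) {s : E} (hs : s ≠ 0)
    (htr : ∀ e : E, e ≠ 0 → ∃ j : ℕ, f ^ j • s = e) : IsCyclic (MulAction.stabilizer H s) := by
  classical
  haveI : Nontrivial E := ⟨⟨s, 0, hs⟩⟩
  let ρ : H →* AddMonoid.End E := DistribMulAction.toAddMonoidEnd H E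
  have hρ : ∀ (g : H) (e : E), ρ g e = g • e := fun _ _ => rfl
  have hmul : ∀ (x y : AddMonoid.End E) (e : E), (x * y) e = x (y e) := fun _ _ _ => rfl
  haveI : Finite (AddMonoid.End E) := Finite.of_injective (fun x : AddMonoid.End E => (x : E → E))
    DFunLike.coe_injective
  let A : Subring (AddMonoid.End E) := Subring.closure {ρ f}
  have hmem : ∀ j : ℕ, ρ (f ^ j) ∈ A := fun j => by
    rw [map_pow]; exact A.pow_mem (Subring.subset_closure (Set.mem_singleton (ρ f))) j
  have hcomm : ∀ x ∈ A, ∀ y ∈ A, x * y = y * x := by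
    have h1 : A ≤ Subring.centralizer ({ρ f} : Set (AddMonoid.End E)) := by
      refine Subring.closure_le.mpr fun z hz => ?_
      rw [Set.mem_singleton_iff.mp hz, SetLike.mem_coe, Subring.mem_centralizer_iff]
      intro w hw
      rw [Set.mem_singleton_iff.mp hw]
    have h2' : A ≤ Subring.centralizer (A : Set (AddMonoid.End E)) := by
      refine Subring.closure_le.mpr fun z hz => ?_
      rw [Set.mem_singleton_iff.mp hz, SetLike.mem_coe, Subring.mem_centralizer_iff]
      intro w hw
      exact (Subring.mem_centralizer_iff.mp (h1 hw) _ (Set.mem_singleton _)).symm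
    intro x hx y hy
    exact Subring.mem_centralizer_iff.mp (h2' hy) x hx
  have heval : ∀ x ∈ A, x s = 0 → x = 0 := by
    intro x hx h
    refine AddMonoidHom.ext fun e => ?_
    rcases eq_or_ne e 0 with rfl | he
    · exact map_zero x
    obtain ⟨j, rfl⟩ := htr e he
    show x (ρ (f ^ j) s) = 0
    rw [← hmul, hcomm x hx _ (hmem j), hmul, h, map_zero]
  haveI : Fact (Nat.Prime 2) := ⟨Nat.prime_two⟩
  letI : CommRing A := { (inferInstance : Ring A) with
    mul_comm := fun x y => Subtype.ext (hcomm _ x.2 _ y.2) }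
  haveI : Nontrivial A := ⟨⟨1, 0, fun h => hs (by
    simpa using congrArg (fun z : A => (z : AddMonoid.End E) s) h)⟩⟩
  haveI : NoZeroDivisors A := ⟨fun {x y} hxy => by
    rcases eq_or_ne ((y : AddMonoid.End E) s) 0 with h | h
    · exact Or.inr (Subtype.ext (heval _ y.2 h))
    refine Or.inl (Subtype.ext (heval _ x.2 ?_))
    obtain ⟨j, hj⟩ := htr _ h
    have e : (x : AddMonoid.End E) ((y : AddMonoid.End E) s) = 0 := by
      simpa using congrArg (fun z : A => (z : AddMonoid.End E) s) hxy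
    rw [← hj, ← hρ, ← hmul, hcomm _ x.2 _ (hmem j), hmul, hρ] at e
    exact (smul_eq_zero_iff_eq (f ^ j)).mp e⟩
  haveI : IsDomain A := NoZeroDivisors.to_isDomain A
  haveI : Fintype A := Fintype.ofFinite A
  letI : Field A := Fintype.fieldOfDomain A
  haveI : CharP A 2 := CharTwo.of_one_ne_zero_of_two_eq_zero one_ne_zero (Subtype.ext (AddMonoidHom.ext fun e => by
    show ((2 : A) : AddMonoid.End E) e = 0
    rw [← one_add_one_eq_two]
    exact (two_nsmul e).symm.trans (h2 e)))
  letI : Algebra (ZMod 2) A := ZMod.algebra A 2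
  let S := MulAction.stabilizer H s
  have hA : ∀ (g : H), ∀ x ∈ A, ρ g * x * ρ g⁻¹ ∈ A := by
    intro g x hx
    induction hx using Subring.closure_induction with
    | mem z hz =>
      obtain ⟨j, hj⟩ := hn g
      rw [Set.mem_singleton_iff.mp hz, ← map_mul, ← map_mul, ← hj]
      exact hmem j
    | zero => simp [A.zero_mem]
    | one => rw [mul_one, ← map_mul, mul_inv_cancel, map_one]; exact A.one_mem
    | add x y _ _ ihx ihy => rw [mul_add, add_mul]; exact A.add_mem ihx ihy
    | neg x _ ih => rw [mul_neg, neg_mul]; exact A.neg_mem ih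
    | mul x y _ _ ihx ihy =>
      have e : ρ g * (x * y) * ρ g⁻¹ = ρ g * x * ρ g⁻¹ * (ρ g * y * ρ g⁻¹) := by
        simp only [mul_assoc]
        rw [← mul_assoc (ρ g⁻¹) (ρ g), ← map_mul, inv_mul_cancel, map_one, one_mul]
      rw [e]; exact A.mul_mem ihx ihy
  let θ₀ : H → A →+* A := fun g =>
    { toFun := fun x => ⟨ρ g * x * ρ g⁻¹, hA g x x.2⟩
      map_one' := Subtype.ext (by simp [← map_mul])
      map_mul' := fun x y => Subtype.ext (by
        show ρ g * ((x : AddMonoid.End E) * y) * ρ g⁻¹ = ρ g * x * ρ g⁻¹ * (ρ g * y * ρ g⁻¹)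
        simp only [mul_assoc]
        rw [← mul_assoc (ρ g⁻¹) (ρ g), ← map_mul, inv_mul_cancel, map_one, one_mul])
      map_zero' := Subtype.ext (by simp)
      map_add' := fun x y => Subtype.ext (by simp [mul_add, add_mul]) }
  let θ : H →* (A →ₐ[ZMod 2] A) :=
    { toFun := fun g => { θ₀ g with
        commutes' := fun r => RingHom.congr_fun
          (Subsingleton.elim ((θ₀ g).comp (algebraMap (ZMod 2) A)) (algebraMap (ZMod 2) A)) r }
      map_one' := AlgHom.ext fun x => Subtype.ext (by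
        show ρ 1 * (x : AddMonoid.End E) * ρ 1⁻¹ = x
        rw [inv_one, map_one, one_mul, mul_one])
      map_mul' := fun g k => AlgHom.ext fun x => Subtype.ext (by
        show ρ (g * k) * (x : AddMonoid.End E) * ρ (g * k)⁻¹ = ρ g * (ρ k * x * ρ k⁻¹) * ρ g⁻¹
        rw [mul_inv_rev, map_mul, map_mul]
        simp only [mul_assoc]) }
  let ψ : S →* (A ≃ₐ[ZMod 2] A) :=
    ((AlgEquiv.algHomUnitsEquiv (ZMod 2) A).toMonoidHom).comp (θ.comp S.subtype).toHomUnits
  refine isCyclic_of_injective ψ ((injective_iff_map_eq_one ψ).mpr fun g hg => ?_)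
  have hg' : ∀ x : A, θ g x = x := fun x => DFunLike.congr_fun hg x
  have hf : ρ g * ρ f * ρ (g : H)⁻¹ = ρ f :=
    congrArg Subtype.val (hg' ⟨ρ f, Subring.subset_closure (Set.mem_singleton (ρ f))⟩)
  have hgf : Commute (g : H) f := by
    refine eq_of_smul_eq_smul (α := E) fun e => ?_
    have := DFunLike.congr_fun hf ((g : H) • e)
    simp only [hmul, hρ, inv_smul_smul] at this
    rwa [mul_smul, mul_smul]
  refine Subtype.ext (eq_of_smul_eq_smul (α := E) fun e => ?_)
  rw [OneMemClass.coe_one, one_smul]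
  rcases eq_or_ne e 0 with rfl | he
  · exact smul_zero _
  obtain ⟨j, rfl⟩ := htr e he
  rw [← mul_smul, (hgf.pow_right j).eq, mul_smul, MulAction.mem_stabilizer_iff.mp g.2]

end Cfsg.Agent.RankOneK
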