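import Cfsg.Agent.RankOneK.Abstract
import Cfsg.Agent.Lib.RankOne.Nilpotent
import Cfsg.Agent.Lib.RankOne.Fixed
import Cfsg.Agent.Lib.OddOrderGlue.Basic
import Cfsg.Agent.S1127

/-!
The elements of the two-point stabiliser inverted by `t` form a cyclic normal subgroup, the
centraliser of `t` modulo the kernel is cyclic, and a Sylow 2-subgroup of `Q` is abelian or a
Suzuki 2-group; all under the hypothesis that groups of odd order are solvable.
-/

set_option autoImplicit false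

namespace Cfsg.Agent.RankOneK

open MulAction RankOne

universe u

variable {G : Type u} {Ω : Type*} [Group G] [Finite G] [MulAction G Ω] [FaithfulSMul G Ω] {a : Ω} {t : G}
  {Q : Subgroup G}

/-- The kernel of the action of `D` on the involutions fixing `a`. -/
abbrev wker (G : Type*) [Group G] {Ω : Type*} [MulAction G Ω] (a : Ω) (t : G) : Subgroup G :=
  twoStab G a t ⊓ Subgroup.centralizer (Cfsg.involutionsIn (stabilizer G a : Set G))

/-- `C_D(t)` and the inverted set, with what we need to know about both. -/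
theorem structure_twoStab (hFT : OddOrderGlue.FeitThompson.{u})
    (hS : Cfsg.IsRankOneSetup G Ω a t Q)
    (h2 : ∃ x y : G, x ≠ 1 ∧ y ≠ 1 ∧ x ≠ y ∧ x * x = 1 ∧ y * y = 1 ∧ x * y = y * x) :
    ∃ g ∈ Cfsg.invertedBy (twoStab G a t) t,
      (∀ k, k ∈ Cfsg.invertedBy (twoStab G a t) t ↔ k ∈ Subgroup.zpowers g) ∧
      (∀ d ∈ twoStab G a t, d * g * d⁻¹ ∈ Subgroup.zpowers g) ∧
      ∃ v ∈ twoStab G a t ⊓ Subgroup.centralizer {t},
        ∀ x ∈ twoStab G a t ⊓ Subgroup.centralizer {t}, ∃ j : ℤ, v ^ j * x ∈ wker G a t := by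
  classical
  set D := twoStab G a t with hDdef
  set K := Cfsg.invertedBy D t with hKdef
  set I := Cfsg.involutionsIn (stabilizer G a : Set G) with hI
  obtain ⟨s₀, r, hs₀, hr, heq⟩ := structure_exists hS
  have hVs := centralizer_t_eq hS hs₀ hr heq
  have hIclosed : ∀ d ∈ D, ∀ x ∈ I, d * x * d⁻¹ ∈ I := fun d hd x hx =>
    ⟨mul_mem (mul_mem hd.1 hx.1) (inv_mem hd.1), (IsInv.conj ⟨hx.2.1, hx.2.2⟩ d).1,
      (IsInv.conj ⟨hx.2.1, hx.2.2⟩ d).2⟩
  let Z0 : Subgroup G :=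
    { carrier := {x | x = 1 ∨ x ∈ I}
      one_mem' := Or.inl rfl
      mul_mem' := by
        rintro x y (rfl | hx) (rfl | hy)
        · exact Or.inl (one_mul 1)
        · exact Or.inr (by rwa [one_mul])
        · exact Or.inr (by rwa [mul_one])
        · exact invol_mul hS h2 hx hy
      inv_mem' := by
        rintro x (rfl | hx)
        · exact Or.inl inv_one
        · exact Or.inr (by rwa [inv_eq_self hx.2.2]) }
  have hZcomm : ∀ x y : Z0, x * y = y * x := by
    rintro ⟨x, rfl | hx⟩ ⟨y, hy⟩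
    · exact Subtype.ext ((one_mul y).trans (mul_one y).symm)
    · rcases hy with rfl | hy
      · exact Subtype.ext ((mul_one x).trans (one_mul x).symm)
      · exact Subtype.ext (invol_central hS h2 ⟨hx.2.1, hx.2.2⟩ hx.1
          (invol_mem_Q hS ⟨hy.2.1, hy.2.2⟩ hy.1))
  letI : CommGroup Z0 := { (inferInstance : Group Z0) with mul_comm := hZcomm }
  have hZmem : ∀ (d : D) (x : Z0), (d : G) * x * (d : G)⁻¹ ∈ Z0 := by
    rintro ⟨d, hd⟩ ⟨x, rfl | hx⟩
    · exact Or.inl (by simp)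
    · exact Or.inr (hIclosed d hd x hx)
  let φ₀ : D →* MulAut Z0 :=
    { toFun := fun d =>
        { toFun := fun x => ⟨(d : G) * x * (d : G)⁻¹, hZmem d x⟩
          invFun := fun x => ⟨(d : G)⁻¹ * x * (d : G), by simpa using hZmem d⁻¹ x⟩
          left_inv := fun x => Subtype.ext (by simp [mul_assoc])
          right_inv := fun x => Subtype.ext (by simp [mul_assoc])
          map_mul' := fun x y => Subtype.ext (by simp [mul_assoc]) }
      map_one' := MulEquiv.ext fun x => Subtype.ext (by simp)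
      map_mul' := fun d e => MulEquiv.ext fun x => Subtype.ext (by simp [mul_assoc]) }
  have hφ₀ : ∀ (d : D) (x : Z0), ((φ₀ d x : Z0) : G) = (d : G) * x * (d : G)⁻¹ := fun _ _ => rfl
  let φ : D →* φ₀.range := φ₀.rangeRestrict
  have hφsurj : Function.Surjective φ := φ₀.rangeRestrict_surjective
  letI : DistribMulAction φ₀.range (Additive Z0) :=
    { smul := fun h e => Additive.ofMul ((h : MulAut Z0) (Additive.toMul e))
      one_smul := fun e => rfl
      mul_smul := fun h k e => rfl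
      smul_zero := fun h => congrArg Additive.ofMul (map_one (h : MulAut Z0))
      smul_add := fun h e e' => congrArg Additive.ofMul (map_mul (h : MulAut Z0) _ _) }
  have hsmul : ∀ (d : D) (x : Z0), φ d • Additive.ofMul x = Additive.ofMul (φ₀ d x) := fun _ _ => rfl
  haveI : FaithfulSMul φ₀.range (Additive Z0) :=
    ⟨fun {h k} e => Subtype.ext (MulEquiv.ext fun x => Additive.ofMul.injective (e (Additive.ofMul x)))⟩
  have hker : ∀ d : D, φ d = 1 ↔ (d : G) ∈ wker G a t := fun d => by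
    constructor
    · intro h
      refine ⟨d.2, Subgroup.mem_centralizer_iff.2 fun x hx => ?_⟩
      have := congrArg Subtype.val (MulEquiv.congr_fun (congrArg Subtype.val h) (⟨x, Or.inr hx⟩ : Z0))
      change (d : G) * x * (d : G)⁻¹ = x at this
      exact (mul_inv_eq_iff_eq_mul.1 this).symm
    · rintro ⟨-, hd⟩
      refine Subtype.ext (MulEquiv.ext fun x => Subtype.ext ?_)
      show (d : G) * x * (d : G)⁻¹ = x
      rcases x.2 with h | h
      · simp [h]
      · exact mul_inv_eq_iff_eq_mul.2 (Subgroup.mem_centralizer_iff.1 hd _ h).symm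
  have hW := (S1127.result hS).2
  change twoStab G a t ⊓ Subgroup.centralizer {t} ⊓ Subgroup.centralizer K = wker G a t at hW
  have hWt : ∀ w ∈ wker G a t, t * w = w * t := fun w hw => by
    rw [← hW] at hw
    exact (Subgroup.mem_centralizer_singleton_iff.1 hw.1.2).symm
  have hWK : ∀ w ∈ wker G a t, ∀ k ∈ K, k * w = w * k := fun w hw k hk => by
    rw [← hW] at hw
    exact Subgroup.mem_centralizer_iff.1 hw.2 k hk
  -- hypotheses of the abstract lemma
  have hDodd : Odd (Nat.card D) := hS.odd_card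
  have hHodd : Odd (Nat.card φ₀.range) := hDodd.of_dvd_nat (Subgroup.card_dvd_of_surjective φ hφsurj)
  haveI : Group.IsSolvable D := hFT D hDodd
  haveI : Group.IsSolvable φ₀.range := Group.isSolvable_of_surjective hφsurj
  have h2E : ∀ e : Additive Z0, 2 • e = 0 := fun e => by
    obtain ⟨⟨x, hx⟩, rfl⟩ := Additive.ofMul.surjective e
    rw [← ofMul_pow, ← ofMul_one]
    refine congrArg _ (Subtype.ext ?_)
    rcases hx with rfl | hx
    · simp
    · simp [pow_two, hx.2.2]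
  have hne : ∀ e : Additive Z0, e ≠ 0 → ((Additive.toMul e : Z0) : G) ∈ I := fun e he => by
    rcases (Additive.toMul e).2 with h | h
    · exact absurd (show Additive.toMul e = 1 from Subtype.ext h) he
    · exact h
  have htrK : ∀ e e' : Additive Z0, e ≠ 0 → e' ≠ 0 → ∃ k : D, (k : G) ∈ K ∧ φ k • e = e' := by
    intro e e' he he'
    obtain ⟨k, hk, hke⟩ := inverted_transitive hS (hne e he) (hne e' he')
    have hki : k⁻¹ ∈ K := ⟨inv_mem hk.1, by
      rw [show t * k⁻¹ * t⁻¹ = (t * k * t⁻¹)⁻¹ by group, hk.2]⟩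
    refine ⟨⟨k⁻¹, hki.1⟩, hki, ?_⟩
    show φ _ • Additive.ofMul (Additive.toMul e) = Additive.ofMul (Additive.toMul e')
    rw [hsmul]
    refine congrArg _ (Subtype.ext ?_)
    rw [hφ₀]
    simpa using hke
  let s : Additive Z0 := Additive.ofMul ⟨s₀, Or.inr hs₀⟩
  have hs : s ≠ 0 := fun h => hs₀.2.1 (congrArg (fun e : Additive Z0 => ((Additive.toMul e : Z0) : G)) h)
  let τD : D →* D :=
    { toFun := fun d => ⟨t * d * t⁻¹, conj_t_twoStab hS d.2⟩
      map_one' := Subtype.ext (by simp)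
      map_mul' := fun x y => Subtype.ext (by simp [mul_assoc]) }
  have hτD : ∀ d : D, ((τD d : D) : G) = t * d * t⁻¹ := fun _ => rfl
  have hle : φ.ker ≤ (φ.comp τD).ker := fun d hd => by
    rw [MonoidHom.mem_ker] at hd ⊢
    have h := (hker d).1 hd
    rw [MonoidHom.comp_apply, hker]
    rw [hτD, hWt _ h, mul_inv_cancel_right]
    exact h
  let τ : φ₀.range →* φ₀.range := φ.liftOfSurjective hφsurj ⟨φ.comp τD, hle⟩
  have hτ : ∀ d : D, τ (φ d) = φ (τD d) := fun d =>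
    MonoidHom.liftOfRightInverse_comp_apply φ _ _ ⟨φ.comp τD, hle⟩ d
  have hττ : ∀ h, τ (τ h) = h := fun h => by
    obtain ⟨d, rfl⟩ := hφsurj h
    rw [hτ, hτ]
    refine congrArg φ (Subtype.ext ?_)
    rw [hτD, hτD, t_inv hS]
    calc t * (t * d * t) * t = (t * t) * d * (t * t) := by group
      _ = _ := by rw [hS.mul_self, one_mul, mul_one]
  have hfixV : ∀ d : D, τ (φ d) = φ d → (d : G) * t = t * d := by
    intro d h
    rw [hτ] at h
    have hw : φ ((τD d)⁻¹ * d) = 1 := by rw [map_mul, map_inv, h, inv_mul_cancel]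
    have hw' := (hker _).1 hw
    set w : G := (((τD d)⁻¹ * d : D) : G) with hwdef
    have e1 : w = (t * d * t⁻¹)⁻¹ * d := rfl
    have e2 : t * w * t⁻¹ = w⁻¹ := by
      rw [e1, mul_inv_rev ((t * (d : G) * t⁻¹)⁻¹) (d : G), inv_inv]
      calc t * ((t * d * t⁻¹)⁻¹ * d) * t⁻¹ = (t * t) * ((d : G)⁻¹ * (t⁻¹ * d * t⁻¹)) := by group
        _ = _ := by rw [hS.mul_self, one_mul, t_inv hS]
    rw [hWt w hw', mul_inv_cancel_right] at e2
    have hw1 : w = 1 := eq_one_of_mul_self (odd_orderOf_of_mem hS.odd_card hw'.1)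
      (eq_inv_iff_mul_eq_one.1 e2)
    rw [e1, inv_mul_eq_one, mul_inv_eq_iff_eq_mul] at hw1
    exact hw1.symm
  have hfix : ∀ h, τ h = h → h • s = s := fun h hh => by
    obtain ⟨d, rfl⟩ := hφsurj h
    have hd : (d : G) ∈ D ⊓ Subgroup.centralizer {t} :=
      ⟨d.2, Subgroup.mem_centralizer_singleton_iff.2 (hfixV d hh)⟩
    rw [hVs] at hd
    rw [show s = Additive.ofMul (⟨s₀, Or.inr hs₀⟩ : Z0) from rfl, hsmul]
    refine congrArg _ (Subtype.ext ?_)
    rw [hφ₀]
    exact mul_inv_eq_iff_eq_mul.2 (Subgroup.mem_centralizer_singleton_iff.1 hd.2)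
  have htr : ∀ e e' : Additive Z0, e ≠ 0 → e' ≠ 0 → ∃ h : φ₀.range, h • e = e' := fun e e' he he' =>
    ⟨_, (htrK e e' he he').choose_spec.2⟩
  have hF := inverted_eq_fitting hHodd h2E htr hs τ hττ hfix
  haveI := (fitting_cyclic hHodd h2E htr).1
  obtain ⟨f, hf⟩ := IsCyclic.exists_generator (α := Cfsg.fittingSubgroup φ₀.range)
  -- elements of `K` map into the Fitting subgroup
  have hKF : ∀ k : D, (k : G) ∈ K → φ k ∈ Cfsg.fittingSubgroup φ₀.range := fun k hk => by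
    rw [hF, hτ, ← map_inv]
    exact congrArg φ (Subtype.ext hk.2)
  -- decomposition of the preimage
  have hdec : ∀ m : D, φ m ∈ Cfsg.fittingSubgroup φ₀.range →
      ∃ w ∈ wker G a t, ∃ k : D, (k : G) ∈ K ∧ (m : G) = w * k ∧ φ m = φ k := by
    intro m hm
    obtain ⟨c, i, hc, hct, hi, hit, he, -⟩ :=
      odd_decomp hS.mul_self hS.odd_card (fun y hy => conj_t_twoStab hS hy) m.2
    have hmi : φ m = φ ⟨c, hc⟩ * φ ⟨i, hi⟩ := by
      rw [← map_mul]; exact congrArg φ (Subtype.ext he)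
    have hcF : φ ⟨c, hc⟩ ∈ Cfsg.fittingSubgroup φ₀.range := by
      have := mul_mem hm (inv_mem (hKF ⟨i, hi⟩ ⟨hi, hit⟩))
      rwa [hmi, mul_inv_cancel_right] at this
    have h1 : φ ⟨c, hc⟩ = (φ ⟨c, hc⟩)⁻¹ := by
      have h3 := (hF _).1 hcF
      rwa [hτ, show τD ⟨c, hc⟩ = ⟨c, hc⟩ from Subtype.ext (mul_inv_eq_iff_eq_mul.2 hct)] at h3
    have h4 : φ ⟨c, hc⟩ = 1 :=
      eq_one_of_mul_self (hHodd.of_dvd_nat (orderOf_dvd_natCard _)) (eq_inv_iff_mul_eq_one.1 h1)
    exact ⟨c, (hker ⟨c, hc⟩).1 h4, ⟨i, hi⟩, ⟨hi, hit⟩, he, by rw [hmi, h4, one_mul]⟩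
  obtain ⟨m₀, hm₀⟩ := hφsurj (f : φ₀.range)
  obtain ⟨-, -, ⟨g, hgD⟩, hgK, -, hgφ⟩ := hdec m₀ (hm₀ ▸ f.2)
  rw [hm₀] at hgφ
  have huniq : ∀ c i i' : G, c ∈ wker G a t → i ∈ K → i' ∈ K → c * i = i' → i = i' := fun c i i' hc hi hi' h =>
    (odd_decomp_unique hS.odd_card hc.1 (hWt c hc) hi.1 hi.2 D.one_mem (by simp) hi'.1 hi'.2
      (by rw [one_mul]; exact h)).2
  have hpow : ∀ j : ℤ, g ^ j ∈ K := fun j => ⟨zpow_mem hgD j, by
    rw [← conj_zpow, hgK.2, inv_zpow]⟩
  have hKz : ∀ k, k ∈ K ↔ k ∈ Subgroup.zpowers g := by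
    intro k
    refine ⟨fun hk => ?_, fun hk => ?_⟩
    · obtain ⟨j, hj⟩ := Subgroup.mem_zpowers_iff.1 (hf ⟨_, hKF ⟨k, hk.1⟩ hk⟩)
      have e : φ (⟨k, hk.1⟩ * (⟨g, hgD⟩ ^ j)⁻¹) = 1 := by
        rw [map_mul, map_inv, map_zpow, ← hgφ, ← SubgroupClass.coe_zpow, hj]
        exact mul_inv_cancel _
      have hw := (hker _).1 e
      simp only [Subgroup.coe_mul, Subgroup.coe_inv, SubgroupClass.coe_zpow] at hw
      have := huniq _ _ _ hw (hpow j) hk (by group)
      exact Subgroup.mem_zpowers_iff.2 ⟨j, this⟩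
    · obtain ⟨j, rfl⟩ := Subgroup.mem_zpowers_iff.1 hk
      exact hpow j
  refine ⟨g, hgK, hKz, fun d hd => ?_, ?_⟩
  · obtain ⟨c, i, hc, hct, hi, hit, rfl, -⟩ :=
      odd_decomp hS.mul_self hS.odd_card (fun y hy => conj_t_twoStab hS hy) hd
    have hig : i * g = g * i := by
      obtain ⟨j, rfl⟩ := Subgroup.mem_zpowers_iff.1 ((hKz i).1 ⟨hi, hit⟩)
      exact ((Commute.refl g).zpow_left j).eq
    rw [← hKz]
    refine ⟨mul_mem (mul_mem (mul_mem hc hi) hgD) (inv_mem (mul_mem hc hi)), ?_⟩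
    have e : c * i * g * (c * i)⁻¹ = c * g * c⁻¹ := by
      calc c * i * g * (c * i)⁻¹ = c * (i * g * i⁻¹) * c⁻¹ := by group
        _ = _ := by rw [hig]; group
    rw [e]
    have hc' : t * c * t⁻¹ = c := mul_inv_eq_iff_eq_mul.2 hct
    calc t * (c * g * c⁻¹) * t⁻¹ = (t * c * t⁻¹) * (t * g * t⁻¹) * (t * c * t⁻¹)⁻¹ := by group
      _ = _ := by rw [hc', hgK.2]; group
  -- the centraliser of `t`
  have hn : ∀ x : φ₀.range, x * (f : φ₀.range) * x⁻¹ ∈ Submonoid.powers (f : φ₀.range) := by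
    intro x
    obtain ⟨j, hj⟩ := mem_powers_iff_mem_zpowers.2
      (hf ⟨_, Fitting.fitting_normal.conj_mem _ f.2 x⟩)
    exact ⟨j, by simpa using congrArg Subtype.val hj⟩
  have htrf : ∀ e : Additive Z0, e ≠ 0 → ∃ j : ℕ, (f : φ₀.range) ^ j • s = e := fun e he => by
    obtain ⟨k, hk, hke⟩ := htrK s e hs he
    obtain ⟨j, hj⟩ := mem_powers_iff_mem_zpowers.2 (hf ⟨_, hKF k hk⟩)
    exact ⟨j, by rw [← hke, ← show (f : φ₀.range) ^ j = φ k by simpa using congrArg Subtype.val hj]⟩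
  haveI := stabilizer_isCyclic h2E (f : φ₀.range) hn hs htrf
  let ψ : (D ⊓ Subgroup.centralizer {t} : Subgroup G) →* φ₀.range :=
    φ.comp (Subgroup.inclusion inf_le_left)
  have hψ : ψ.range ≤ stabilizer φ₀.range s := by
    rintro _ ⟨x, rfl⟩
    refine hfix _ ?_
    show τ (φ _) = φ _
    rw [hτ]
    exact congrArg φ (Subtype.ext (mul_inv_eq_iff_eq_mul.2
      (Subgroup.mem_centralizer_singleton_iff.1 x.2.2).symm))
  haveI : IsCyclic ψ.range := isCyclic_of_injective (Subgroup.inclusion hψ) (Subgroup.inclusion_injective hψ)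
  obtain ⟨⟨_, v, rfl⟩, hv⟩ := IsCyclic.exists_generator (α := ψ.range)
  refine ⟨v, v.2, fun x hx => ?_⟩
  obtain ⟨j, hj⟩ := Subgroup.mem_zpowers_iff.1 (hv ⟨ψ ⟨x, hx⟩, ⟨x, hx⟩, rfl⟩)
  refine ⟨-j, ?_⟩
  have e : ψ (v ^ (-j) * ⟨x, hx⟩) = 1 := by
    rw [map_mul, map_zpow, zpow_neg, ← show (ψ v) ^ j = ψ ⟨x, hx⟩ from congrArg Subtype.val hj,
      inv_mul_cancel]
  have := (hker _).1 e
  simpa using this

end Cfsg.Agent.RankOneK
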